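import Groth.Agent.OpenMVLib.Sequence
import Groth.Agent.AffCurveLib.Vanish
import Groth.Agent.AcycCompLib.Basic
import Groth.Agent.EtTraceLib.Apply
import Groth.Agent.ASp.LiftDim
import Groth.Agent.S1607

/-!
# Surjectivity of restriction in degree two to opens of curves
-/

set_option autoImplicit false
set_option linter.style.haveILetI false
set_option backward.isDefEq.respectTransparency false
set_option backward.isDefEq.respectTransparency.types false
set_option maxHeartbeats 1000000
set_option synthInstance.maxHeartbeats 400000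

universe u

open CategoryTheory CategoryTheory.Limits AlgebraicGeometry Opposite TopologicalSpace

noncomputable section

namespace Groth.Agent.CurveOpenLib

attribute [local instance] Groth.Agent.S0101.result

theorem surjective_of_vanish {X A B C : Scheme.{u}} (jA : A ⟶ X) [IsOpenImmersion jA] (jB : B ⟶ X) [IsOpenImmersion jB]
    (jC : C ⟶ X) [IsOpenImmersion jC] (kA : C ⟶ A) (wA : kA ≫ jA = jC) (kB : C ⟶ B) (wB : kB ≫ jB = jC)
    (hcov : ∀ x : X, x ∈ Set.range jA ∨ x ∈ Set.range jB)
    (hC : Set.range jA ∩ Set.range jB ⊆ Set.range jC) (F : EtCoh.Ab X) (q : ℕ)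
    (h : Subsingleton (EtCoh.H C ((EtCoh.pull jC).obj F) q)) :
    Function.Surjective (EtCore.Hpull jA F q) := by
  haveI := EtJCont.jCont jA
  haveI := EtJCont.jCont jB
  haveI := EtJCont.jCont jC
  obtain ⟨δ, -, -, h3, -⟩ := OpenMVLib.exists_mayerVietoris jA jB jC kA wA kB wB F hcov hC
  intro y
  have hy : (y, (0 : EtCoh.H B ((EtCoh.pull jB).obj F) q)) ∈ (OpenMVLib.dmap jA jB jC kA wA kB wB F q).ker :=
    h.elim _ _
  rw [h3 q] at hy
  obtain ⟨x, hx⟩ := hy
  exact ⟨x, congrArg Prod.fst hx⟩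

theorem surjective_Hpull_comp' {A B C : Scheme.{u}} (g : B ⟶ A) (f : C ⟶ B) (h : C ⟶ A) (w : f ≫ g = h)
    (F : EtCoh.Ab A) (q : ℕ) (hg : Function.Surjective (EtCore.Hpull g F q))
    (hf : Function.Surjective (EtCore.Hpull f ((EtCoh.pull g).obj F) q)) :
    Function.Surjective (EtCore.Hpull h F q) := by
  haveI := EtLimLib.isIso_comparePull g f h w F
  have hb := ConcreteCategory.bijective_of_isIso ((EtCoh.HF C q).map ((EtLimLib.comparePull g f h w).app F))
  intro y
  obtain ⟨z, hz⟩ := (hf.comp hg) (((EtCoh.HF C q).map ((EtLimLib.comparePull g f h w).app F)).hom y)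
  exact ⟨z, hb.1 ((congrFun (AcycCompLib.Hpull_comp g f h w F q) z).trans hz)⟩

variable {k : Type u} [Field k] [IsAlgClosed k] {X : Scheme.{u}} (f : X ⟶ Spec (CommRingCat.of k))
  [IsSeparated f] [LocallyOfFiniteType f] [QuasiCompact f]

include f in
theorem isAffineOpen_inf (hdim : topologicalKrullDim X ≤ 1) (W V : X.Opens) (hV : IsAffineOpen V) :
    IsAffineOpen (W ⊓ V) := by
  haveI : IsLocallyNoetherian X := LocallyOfFiniteType.isLocallyNoetherian f
  haveI : CompactSpace X := QuasiCompact.compactSpace_of_compactSpace f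
  haveI : AlgebraicGeometry.IsNoetherian X := {}
  haveI : IsAffine V.toScheme := hV
  haveI : IsLocallyNoetherian V.toScheme := isLocallyNoetherian_of_isOpenImmersion V.ι
  haveI : AlgebraicGeometry.IsNoetherian V.toScheme := {}
  have hd : topologicalKrullDim V.toScheme ≤ 1 :=
    (Topology.IsInducing.topologicalKrullDim_le V.ι.isOpenEmbedding.isInducing).trans hdim
  have hst : ∀ x : V.toScheme, IsNoetherianRing (V.toScheme.presheaf.stalk x) ∧
      ringKrullDim (V.toScheme.presheaf.stalk x) ≤ 1 := fun x => by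
    refine ⟨inferInstance, ?_⟩
    letI : Preorder ↥V.toScheme := inferInstance
    rw [ringKrullDim_stalk_eq_coheight]
    refine (Order.coheight_le_krullDim x).trans ?_
    exact (Groth.Agent.ASp.topologicalKrullDim_eq_krullDim (A := ↥V.toScheme)).symm.le.trans hd
  have h := (S1607.result V.toScheme hst (V.ι ⁻¹ᵁ W) (NoetherianSpace.isCompact _)).image_of_isOpenImmersion V.ι
  rwa [V.ι.image_preimage_eq_opensRange_inf, Scheme.Opens.opensRange_ι, inf_comm] at h

include f in
/-- Adding an affine open does not lose classes of degree two. -/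
theorem surjective_sup (hdim : topologicalKrullDim X ≤ 1) (W V : X.Opens) (hV : IsAffineOpen V)
    (G : EtCoh.Ab (W ⊔ V).toScheme) (hG : EtCoh.IsTorsion G) :
    Function.Surjective (EtCore.Hpull (X.homOfLE (le_sup_left : W ≤ W ⊔ V)) G 2) := by
  haveI : IsAffine (W ⊓ V : X.Opens).toScheme := isAffineOpen_inf f hdim W V hV
  refine surjective_of_vanish (X.homOfLE (le_sup_left : W ≤ W ⊔ V)) (X.homOfLE (le_sup_right : V ≤ W ⊔ V))
    (X.homOfLE ((inf_le_left : W ⊓ V ≤ W).trans le_sup_left))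
    (X.homOfLE (inf_le_left : W ⊓ V ≤ W)) (by simp)
    (X.homOfLE (inf_le_right : W ⊓ V ≤ V)) (by simp) (fun x => ?_) ?_ G 2 ?_
  · obtain hx | hx := (TopologicalSpace.Opens.mem_sup).1 x.2
    · exact Or.inl ⟨⟨x.1, hx⟩, Subtype.ext (by simp)⟩
    · exact Or.inr ⟨⟨x.1, hx⟩, Subtype.ext (by simp)⟩
  · rintro _ ⟨⟨a, rfl⟩, ⟨b, hb⟩⟩
    have e : b.1 = a.1 := by simpa using congrArg Subtype.val hb
    exact ⟨⟨a.1, a.2, e ▸ b.2⟩, Subtype.ext (by simp)⟩
  · refine AffCurveLib.cohDimLE_one ((W ⊓ V).ι ≫ f)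
      ((Topology.IsInducing.topologicalKrullDim_le (W ⊓ V).ι.isOpenEmbedding.isInducing).trans hdim) _
      (EtTraceLib.isTorsion_pull _ hG) 2 (by omega)

include f in
theorem surjective_finset (hdim : topologicalKrullDim X ≤ 1) (s : Finset X.affineOpens) (U : X.Opens) :
    ∀ (G : EtCoh.Ab (U ⊔ s.sup fun V => (V : X.Opens)).toScheme), EtCoh.IsTorsion G →
      Function.Surjective (EtCore.Hpull (X.homOfLE (le_sup_left : U ≤ U ⊔ s.sup fun V => (V : X.Opens))) G 2) := by
  classical
  induction s using Finset.induction_on with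
  | empty =>
    intro G _
    haveI : IsIso (X.homOfLE (le_sup_left : U ≤ U ⊔ (∅ : Finset X.affineOpens).sup fun V => (V : X.Opens))) :=
      ⟨X.homOfLE (by simp), by simp, by simp⟩
    exact (AcycCompLib.bijective_Hpull_of_isIso _ G 2).2
  | insert V s _ ih =>
    intro G hG
    let W := U ⊔ s.sup fun V => (V : X.Opens)
    have hle : W ⊔ (V : X.Opens) ≤ U ⊔ (insert V s).sup fun V => (V : X.Opens) := by
      rw [Finset.sup_insert]; exact le_of_eq ((sup_assoc _ _ _).trans (congrArg (U ⊔ ·) (sup_comm _ _)))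
    have hge : (U ⊔ (insert V s).sup fun V => (V : X.Opens)) ≤ W ⊔ (V : X.Opens) := by
      rw [Finset.sup_insert]; exact le_of_eq ((sup_assoc _ _ _).trans (congrArg (U ⊔ ·) (sup_comm _ _))).symm
    haveI : IsIso (X.homOfLE hle) := ⟨X.homOfLE hge, by simp, by simp⟩
    refine surjective_Hpull_comp' (X.homOfLE hle) (X.homOfLE ((le_sup_left : U ≤ W).trans le_sup_left)) _
      (by simp) G 2 (AcycCompLib.bijective_Hpull_of_isIso _ G 2).2 ?_
    refine surjective_Hpull_comp' (X.homOfLE (le_sup_left : W ≤ W ⊔ (V : X.Opens))) (X.homOfLE (le_sup_left : U ≤ W)) _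
      (by simp) _ 2 (surjective_sup f hdim W V V.2 _ ?_) (ih _ ?_)
    · exact EtTraceLib.isTorsion_pull _ hG
    · exact EtTraceLib.isTorsion_pull _ (EtTraceLib.isTorsion_pull _ hG)

include f in
/-- Restriction to an open of a curve is surjective in degree two. -/
theorem surjective_Hpull_two (hdim : topologicalKrullDim X ≤ 1) (F : EtCoh.Ab X) (hF : EtCoh.IsTorsion F)
    (U : X.Opens) : Function.Surjective (EtCore.Hpull U.ι F 2) := by
  haveI : CompactSpace X := QuasiCompact.compactSpace_of_compactSpace f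
  obtain ⟨s, hs⟩ : ∃ s : Finset X.affineOpens, (U ⊔ s.sup fun V => (V : X.Opens)) = ⊤ := by
    obtain ⟨s, hs⟩ := isCompact_univ.elim_finite_subcover (fun V : X.affineOpens => ((V : X.Opens) : Set X))
      (fun V => V.1.2) (fun x _ => by
        obtain ⟨V, hV, hx, -⟩ := exists_isAffineOpen_mem_and_subset (X := X) (x := x) (U := ⊤) trivial
        exact Set.mem_iUnion.2 ⟨⟨V, hV⟩, hx⟩)
    refine ⟨s, eq_top_iff.2 fun x _ => ?_⟩
    obtain ⟨V, hVs, hxV⟩ := Set.mem_iUnion₂.1 (hs (Set.mem_univ x))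
    exact (le_sup_right : _ ≤ U ⊔ s.sup fun V => (V : X.Opens)) (Finset.le_sup (f := fun V : X.affineOpens => (V : X.Opens)) hVs hxV)
  haveI : IsIso (U ⊔ s.sup fun V => (V : X.Opens)).ι := by
    rw [hs]; exact inferInstanceAs (IsIso X.topIso.hom)
  exact surjective_Hpull_comp' (U ⊔ s.sup fun V => (V : X.Opens)).ι (X.homOfLE le_sup_left) U.ι (by simp) F 2
    (AcycCompLib.bijective_Hpull_of_isIso _ F 2).2 (surjective_finset f hdim s U _ (EtTraceLib.isTorsion_pull _ hF))

end Groth.Agent.CurveOpenLib
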